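import Mathlib
import Groth.Agent.Lib.Helper1.FlatDim
import Groth.Agent.Lib.Helper1.FibreStalk

set_option autoImplicit false
universe u

namespace Groth.Agent.H3.FibreDim
open AlgebraicGeometry CategoryTheory TopologicalSpace Order

attribute [local instance] specializationOrder

lemma scheme_dim_eq_iSup_stalk (Z : Scheme.{u}) :
    topologicalKrullDim ↥Z = ⨆ z : Z, ringKrullDim (Z.presheaf.stalk z) := by
  unfold topologicalKrullDim
  rw [krullDim_eq_of_orderIso (irreducibleSetEquivPoints (α := ↥Z)), krullDim_eq_iSup_coheight]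
  congr 1
  funext z
  rw [ringKrullDim_stalk_eq_coheight]

lemma stalk_dim_le (Z : Scheme.{u}) (z : Z) :
    ringKrullDim (Z.presheaf.stalk z) ≤ topologicalKrullDim ↥Z := by
  rw [scheme_dim_eq_iSup_stalk]
  exact le_iSup (fun z : Z => ringKrullDim (Z.presheaf.stalk z)) z

variable {X Y : Scheme.{u}}

/-- The pointwise dimension inequality with the fibre. -/
lemma stalk_dim_le_add_fiber (f : X ⟶ Y) [IsLocallyNoetherian Y] [LocallyOfFiniteType f] (x : X) :
    ringKrullDim (X.presheaf.stalk x) ≤ ringKrullDim (Y.presheaf.stalk (f x)) +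
      ringKrullDim ((f.fiber (f x)).presheaf.stalk (f.asFiber x)) := by
  have hX : IsLocallyNoetherian X := LocallyOfFiniteType.isLocallyNoetherian f
  let _ : Algebra (Y.presheaf.stalk (f x)) (X.presheaf.stalk x) := (f.stalkMap x).hom.toAlgebra
  have hloc : IsLocalHom (algebraMap (Y.presheaf.stalk (f x)) (X.presheaf.stalk x)) :=
    inferInstanceAs (IsLocalHom (f.stalkMap x).hom)
  have h1 := Groth.Agent.H1.FlatDim.ringKrullDim_le_add_fiber (Y.presheaf.stalk (f x))
    (X.presheaf.stalk x)
  have h2 := ringKrullDim_eq_of_ringEquiv (Groth.Agent.H1.FibreStalk.fiberStalkEquiv f x)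
  rw [← h2]
  exact h1

theorem dim_le_add_of_fibre_dim_le (f : X ⟶ Y) [IsLocallyNoetherian Y]
    [LocallyOfFiniteType f] (n : ℕ) (h : ∀ y : Y, topologicalKrullDim (f.fiber y) ≤ n) :
    topologicalKrullDim X ≤ topologicalKrullDim Y + n := by
  rw [scheme_dim_eq_iSup_stalk X]
  refine iSup_le fun x => ?_
  refine (stalk_dim_le_add_fiber f x).trans ?_
  exact add_le_add (stalk_dim_le Y (f x)) ((stalk_dim_le _ _).trans (h (f x)))

end Groth.Agent.H3.FibreDim
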