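import Mathlib
import Groth.Agent.Lib.Helper1.FlatDim

set_option autoImplicit false
universe u

namespace Groth.Agent.H3.CodimPreimage
open AlgebraicGeometry CategoryTheory TopologicalSpace

/-- Below any prime `𝔮₀` of `S` there is a prime with the same contraction and height at most that of
the contraction. -/
lemma exists_prime_le_height_le {R S : Type*} [CommRing R] [CommRing S]
    [IsNoetherianRing R] [IsNoetherianRing S] (φ : R →+* S) (𝔮₀ : Ideal S) [𝔮₀.IsPrime] :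
    ∃ 𝔮 : Ideal S, 𝔮.IsPrime ∧ 𝔮 ≤ 𝔮₀ ∧ 𝔮.comap φ = 𝔮₀.comap φ ∧ 𝔮.height ≤ (𝔮₀.comap φ).height := by
  let _ : Algebra R S := φ.toAlgebra
  obtain ⟨𝔭, h𝔭⟩ : ∃ 𝔭, 𝔭 = 𝔮₀.comap φ := ⟨_, rfl⟩
  have h𝔭prime : 𝔭.IsPrime := by rw [h𝔭]; infer_instance
  have hle : 𝔭.map (algebraMap R S) ≤ 𝔮₀ := by
    rw [Ideal.map_le_iff_le_comap, h𝔭]; rfl
  obtain ⟨𝔮, h𝔮min, h𝔮le⟩ := Ideal.exists_minimalPrimes_le hle
  have h𝔮prime : 𝔮.IsPrime := h𝔮min.1.1
  have hcomap : 𝔮.comap φ = 𝔭 := by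
    apply le_antisymm
    · rw [h𝔭]; exact Ideal.comap_mono h𝔮le
    · have := h𝔮min.1.2
      rw [Ideal.map_le_iff_le_comap] at this
      exact this
  have hlies : 𝔮.LiesOver 𝔭 := ⟨hcomap.symm⟩
  refine ⟨𝔮, h𝔮prime, h𝔮le, by rw [hcomap, h𝔭], ?_⟩
  rw [← h𝔭]
  have h1 := Ideal.height_le_height_add_of_liesOver 𝔭 𝔮
  rw [Ideal.minimalPrimes_eq_comap] at h𝔮min
  obtain ⟨𝔮', h𝔮', rfl⟩ := h𝔮min
  rw [Ideal.map_comap_of_surjective _ Ideal.Quotient.mk_surjective] at h1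
  have : 𝔮'.IsPrime := h𝔮'.1.1
  rw [Ideal.height_eq_zero_iff.2 h𝔮', add_zero] at h1
  exact h1

variable {X Y : Scheme.{u}}

/-- Dimension of the stalk at a point of an affine open is the height of the prime. -/
lemma ringKrullDim_stalk_eq_height {U : X.Opens} (hU : IsAffineOpen U)
    (y : PrimeSpectrum Γ(X, U)) (hy : hU.fromSpec y ∈ U) :
    ringKrullDim (X.presheaf.stalk (hU.fromSpec y)) = y.asIdeal.height := by
  exact @IsLocalization.AtPrime.ringKrullDim_eq_height _ _ y.asIdeal _ _ _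
    (TopCat.Presheaf.algebra_section_stalk X.presheaf ⟨hU.fromSpec y, hy⟩)
    (hU.isLocalization_stalk' y hy)

/-- Over each point in the image there is a point whose local ring has dimension at most that of
the image point. -/
lemma exists_point_dim_le (f : X ⟶ Y) [IsLocallyNoetherian X] [IsLocallyNoetherian Y] (x₀ : X) :
    ∃ x : X, f x = f x₀ ∧
      ringKrullDim (X.presheaf.stalk x) ≤ ringKrullDim (Y.presheaf.stalk (f x₀)) := by
  obtain ⟨V, hV, hyV, -⟩ := exists_isAffineOpen_mem_and_subset (x := f x₀) (U := ⊤) trivial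
  obtain ⟨U, hU, hxU, hUV⟩ := exists_isAffineOpen_mem_and_subset (x := x₀) (U := f ⁻¹ᵁ V) hyV
  have e : U ≤ f ⁻¹ᵁ V := hUV
  obtain ⟨φ, hφ⟩ : ∃ φ, φ = (f.appLE V U e).hom := ⟨_, rfl⟩
  have hcompat := IsAffineOpen.SpecMap_appLE_fromSpec f hV hU e
  have hnoeth : IsNoetherianRing Γ(X, U) := IsLocallyNoetherian.component_noetherian ⟨U, hU⟩
  have hnoeth' : IsNoetherianRing Γ(Y, V) := IsLocallyNoetherian.component_noetherian ⟨V, hV⟩
  obtain ⟨𝔮₀, h𝔮₀⟩ : ∃ 𝔮₀, 𝔮₀ = hU.primeIdealOf ⟨x₀, hxU⟩ := ⟨_, rfl⟩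
  have h𝔮₀x : hU.fromSpec 𝔮₀ = x₀ := by rw [h𝔮₀]; exact hU.fromSpec_primeIdealOf ⟨x₀, hxU⟩
  obtain ⟨𝔮, h𝔮prime, -, hcomap, hheight⟩ := exists_prime_le_height_le φ 𝔮₀.asIdeal
  -- the point
  have key : ∀ 𝔯 : PrimeSpectrum Γ(X, U),
      f (hU.fromSpec 𝔯) = hV.fromSpec (PrimeSpectrum.comap φ 𝔯) := by
    intro 𝔯
    have := congrArg (fun g => g.base 𝔯) hcompat
    simp only [Scheme.Hom.comp_base, TopCat.comp_app] at this
    rw [← this, hφ]
    rfl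
  refine ⟨hU.fromSpec ⟨𝔮, h𝔮prime⟩, ?_, ?_⟩
  · rw [← h𝔮₀x, key, key]
    congr 1
    exact PrimeSpectrum.ext hcomap
  · have hmemU : hU.fromSpec ⟨𝔮, h𝔮prime⟩ ∈ U := by
      have : hU.fromSpec ⟨𝔮, h𝔮prime⟩ ∈ Set.range hU.fromSpec := ⟨_, rfl⟩
      rw [hU.range_fromSpec] at this
      exact this
    rw [ringKrullDim_stalk_eq_height hU ⟨𝔮, h𝔮prime⟩ hmemU]
    have h2 : f x₀ = hV.fromSpec (PrimeSpectrum.comap φ 𝔮₀) := by rw [← h𝔮₀x, key]
    have hmemV : hV.fromSpec (PrimeSpectrum.comap φ 𝔮₀) ∈ V := by rw [← h2]; exact hyV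
    rw [h2, ringKrullDim_stalk_eq_height hV _ hmemV]
    exact_mod_cast hheight

theorem main (f : X ⟶ Y) [IsLocallyNoetherian X] [IsLocallyNoetherian Y]
    (hf : Function.Surjective f.base) (Z : Set Y) :
    (⨅ x ∈ f.base ⁻¹' Z, ringKrullDim (X.presheaf.stalk x)) ≤
        ⨅ y ∈ Z, ringKrullDim (Y.presheaf.stalk y) ∧
      (Flat f → (⨅ x ∈ f.base ⁻¹' Z, ringKrullDim (X.presheaf.stalk x)) =
        ⨅ y ∈ Z, ringKrullDim (Y.presheaf.stalk y)) := by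
  have part1 : (⨅ x ∈ f.base ⁻¹' Z, ringKrullDim (X.presheaf.stalk x)) ≤
      ⨅ y ∈ Z, ringKrullDim (Y.presheaf.stalk y) := by
    refine le_iInf₂ fun y hy => ?_
    obtain ⟨x₀, rfl⟩ := hf y
    obtain ⟨x, hx, hle⟩ := exists_point_dim_le f x₀
    have hxZ : x ∈ f.base ⁻¹' Z := by
      change f x ∈ Z
      rw [hx]; exact hy
    exact (iInf₂_le x hxZ).trans hle
  refine ⟨part1, fun hflat => le_antisymm part1 ?_⟩
  refine le_iInf₂ fun x hx => ?_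
  refine (iInf₂_le (f x) hx).trans ?_
  let _ : Algebra (Y.presheaf.stalk (f x)) (X.presheaf.stalk x) := (f.stalkMap x).hom.toAlgebra
  have hloc : IsLocalHom (algebraMap (Y.presheaf.stalk (f x)) (X.presheaf.stalk x)) :=
    inferInstanceAs (IsLocalHom (f.stalkMap x).hom)
  have hfl : Module.Flat (Y.presheaf.stalk (f x)) (X.presheaf.stalk x) := Flat.stalkMap f x
  exact Groth.Agent.H1.FlatDim.ringKrullDim_le_of_flat_isLocalHom _ _

end Groth.Agent.H3.CodimPreimage
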