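import Mathlib
import Groth.Agent.Lib.Helper1.StalkGen

/-!
# Irreducible components through a point and minimal primes of the local ring (helper3)
-/

set_option autoImplicit false
universe u
open CategoryTheory AlgebraicGeometry

namespace Groth.Agent.H3.CompsStalk

open Groth.Agent.H1.StalkGen

variable {X : Scheme.{u}}

/-- the point of `X` defined by a prime of the local ring at `x`. -/
noncomputable def ptOfPrime (x : X) (p : Ideal (X.presheaf.stalk x)) [p.IsPrime] : X :=
  X.fromSpecStalk x ⟨p, inferInstance⟩

lemma ptOfPrime_specializes (x : X) (p : Ideal (X.presheaf.stalk x)) [p.IsPrime] :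
    ptOfPrime x p ⤳ x := fromSpecStalk_specializes x _

lemma ptOfPrime_injective (x : X) {p p' : Ideal (X.presheaf.stalk x)} [p.IsPrime] [p'.IsPrime]
    (h : ptOfPrime x p = ptOfPrime x p') : p = p' := by
  have := fromSpecStalk_injective x h
  exact congrArg PrimeSpectrum.asIdeal this

/-- the closure of the point of a minimal prime is an irreducible component. -/
theorem closure_ptOfPrime_mem_irreducibleComponents (x : X) (p : Ideal (X.presheaf.stalk x))
    [p.IsPrime] (hp : p ∈ minimalPrimes (X.presheaf.stalk x)) :
    closure {ptOfPrime x p} ∈ irreducibleComponents (X : Type u) := by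
  set η := ptOfPrime x p with hη
  refine ⟨isIrreducible_singleton.closure, ?_⟩
  intro Z hZ hle
  have hZc : IsIrreducible (closure Z) := hZ.closure
  obtain ⟨ζ, hζ⟩ := QuasiSober.sober hZc isClosed_closure
  have hηζ : ζ ⤳ η := by
    rw [specializes_iff_mem_closure, hζ.def]
    exact subset_closure (hle (subset_closure (Set.mem_singleton η)))
  have hζx : ζ ⤳ x := hηζ.trans (ptOfPrime_specializes x p)
  set p' := primeOf hζx with hp'
  have hζ' : X.fromSpecStalk x p' = ζ := fromSpecStalk_primeOf hζx
  have hle' : p' ≤ (⟨p, inferInstance⟩ : PrimeSpectrum (X.presheaf.stalk x)) := by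
    rw [PrimeSpectrum.le_iff_specializes]
    rw [← hζ'] at hηζ
    exact ((Scheme.Hom.isEmbedding (X.fromSpecStalk x)).isInducing.specializes_iff).mp hηζ
  have heq : p'.asIdeal = p := le_antisymm hle' (hp.2 ⟨p'.2, bot_le⟩ hle')
  have hζη : ζ = η := by
    rw [← hζ', hη]
    unfold ptOfPrime
    congr 1
    exact PrimeSpectrum.ext heq
  calc Z ⊆ closure Z := subset_closure
    _ = closure {ζ} := hζ.def.symm
    _ = closure {η} := by rw [hζη]

/-- **irreducible components through `x` correspond to the minimal primes of the local ring**. -/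
theorem encard_components_through_eq (x : X) :
    {Z : Set X | Z ∈ irreducibleComponents X ∧ x ∈ Z}.encard =
      (minimalPrimes (X.presheaf.stalk x)).encard := by
  classical
  let f : Ideal (X.presheaf.stalk x) → Set X := fun p =>
    if h : p.IsPrime then closure {X.fromSpecStalk x ⟨p, h⟩} else ∅
  have hf : ∀ (p : Ideal (X.presheaf.stalk x)) [hp : p.IsPrime], f p = closure {ptOfPrime x p} := by
    intro p hp
    simp only [f, dif_pos hp]
    rfl
  have hinj : Set.InjOn f (minimalPrimes (X.presheaf.stalk x)) := by
    intro p hp p' hp' h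
    have := hp.1.1
    have := hp'.1.1
    rw [hf p, hf p'] at h
    have h1 : ptOfPrime x p ⤳ ptOfPrime x p' := by
      rw [specializes_iff_mem_closure, h]; exact subset_closure rfl
    have h2 : ptOfPrime x p' ⤳ ptOfPrime x p := by
      rw [specializes_iff_mem_closure, ← h]; exact subset_closure rfl
    exact ptOfPrime_injective x (h1.antisymm h2).eq
  have himg : f '' minimalPrimes (X.presheaf.stalk x) =
      {Z : Set X | Z ∈ irreducibleComponents X ∧ x ∈ Z} := by
    ext Z
    constructor
    · rintro ⟨p, hp, rfl⟩
      have := hp.1.1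
      rw [hf p]
      refine ⟨closure_ptOfPrime_mem_irreducibleComponents x p hp, ?_⟩
      exact (specializes_iff_mem_closure.mp (ptOfPrime_specializes x p))
    · rintro ⟨hZ, hxZ⟩
      have hZirr : IsIrreducible Z := hZ.1
      have hZcl : IsClosed Z := isClosed_of_mem_irreducibleComponents Z hZ
      obtain ⟨ζ, hζ⟩ := QuasiSober.sober hZirr hZcl
      have hζx : ζ ⤳ x := by
        rw [specializes_iff_mem_closure, hζ.def]; exact hxZ
      set p' := primeOf hζx with hp'
      have hζ' : X.fromSpecStalk x p' = ζ := fromSpecStalk_primeOf hζx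
      have : p'.asIdeal.IsPrime := p'.2
      have hpt : ptOfPrime x p'.asIdeal = ζ := hζ'
      have hmin : p'.asIdeal ∈ minimalPrimes (X.presheaf.stalk x) := by
        refine ⟨⟨p'.2, bot_le⟩, ?_⟩
        rintro q ⟨hq, -⟩ hqle
        have := hq
        have h1 : ptOfPrime x q ⤳ ζ := by
          rw [← hζ']
          exact fromSpecStalk_mono x (q := ⟨q, hq⟩) (q' := p') hqle
        have h2 : Z ⊆ closure {ptOfPrime x q} := by
          rw [← hζ.def]
          exact closure_minimal (Set.singleton_subset_iff.mpr
            (specializes_iff_mem_closure.mp h1)) isClosed_closure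
        have h3 : closure {ptOfPrime x q} ⊆ Z :=
          hZ.2 isIrreducible_singleton.closure h2
        have h4 : ζ ⤳ ptOfPrime x q := by
          rw [specializes_iff_mem_closure, hζ.def]
          exact h3 (subset_closure rfl)
        have h5 : ptOfPrime x q = ζ := (h1.antisymm h4).eq
        have h6 : q = p'.asIdeal := ptOfPrime_injective x (h5.trans hpt.symm)
        exact h6 ▸ le_rfl
      refine ⟨p'.asIdeal, hmin, ?_⟩
      rw [hf p'.asIdeal, hpt, hζ.def]
  rw [← himg, hinj.encard_image]

end Groth.Agent.H3.CompsStalk
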