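import Mathlib

/-!
# Constructible subsets of qcqs schemes are images of affine schemes of finite presentation
(helper3)
-/

set_option autoImplicit false

universe u

open AlgebraicGeometry CategoryTheory CategoryTheory.Limits Topology

namespace Groth.Agent.H3.ConstructibleImage

/-- the range of a map out of a coproduct -/
lemma range_sigmaDesc {ι : Type u} {W : ι → Scheme.{u}} {X : Scheme.{u}} (g : ∀ i, W i ⟶ X) :
    Set.range (Sigma.desc g).base = ⋃ i, Set.range (g i).base := by
  apply Set.Subset.antisymm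
  · rintro _ ⟨w, rfl⟩
    obtain ⟨i, y, rfl⟩ := (sigmaOpenCover W).exists_eq w
    rw [Set.mem_iUnion]
    refine ⟨i, y, ?_⟩
    show (g i).base y = (Sigma.desc g).base ((Sigma.ι W i).base y)
    rw [← Scheme.Hom.comp_apply, Sigma.ι_desc]
  · intro x hx
    rw [Set.mem_iUnion] at hx
    obtain ⟨i, y, rfl⟩ := hx
    refine ⟨(Sigma.ι W i).base y, ?_⟩
    rw [← Scheme.Hom.comp_apply, Sigma.ι_desc]

/-- the basic piece: `Spec ((R/I)_f) → Spec R` with `I` finitely generated. -/
lemma basic_piece (R : CommRingCat.{u}) (C : PrimeSpectrum.BasicConstructibleSetData R) :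
    ∃ (W : Scheme.{u}) (g : W ⟶ Spec R), IsAffine W ∧ LocallyOfFinitePresentation g ∧
      Set.range g.base = C.toSet := by
  let I : Ideal R := Ideal.span (Set.range C.g)
  let f : R ⧸ I := Ideal.Quotient.mk I C.f
  let φ : R →+* Localization.Away f := (algebraMap (R ⧸ I) (Localization.Away f)).comp
    (Ideal.Quotient.mk I)
  have hφ : φ.FinitePresentation := by
    refine RingHom.FinitePresentation.comp ?_ ?_
    · have : Algebra.FinitePresentation (R ⧸ I) (Localization.Away f) :=
        IsLocalization.Away.finitePresentation f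
      exact RingHom.finitePresentation_algebraMap.2 this
    · exact RingHom.FinitePresentation.of_surjective _ Ideal.Quotient.mk_surjective
        (by rw [Ideal.mk_ker]; exact Submodule.fg_span (Set.finite_range _))
  refine ⟨Spec (.of (Localization.Away f)), Spec.map (CommRingCat.ofHom φ), inferInstance,
    HasRingHomProperty.Spec_iff.2 hφ, ?_⟩
  show Set.range (PrimeSpectrum.comap φ) = _
  have : PrimeSpectrum.comap φ = PrimeSpectrum.comap (Ideal.Quotient.mk I) ∘
      PrimeSpectrum.comap (algebraMap (R ⧸ I) (Localization.Away f)) := by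
    ext1 x; rfl
  rw [this, Set.range_comp, PrimeSpectrum.localization_away_comap_range _ f,
    ← PrimeSpectrum.comap_basicOpen, TopologicalSpace.Opens.coe_comap,
    ContinuousMap.coe_mk, Set.image_preimage_eq_inter_range,
    range_comap_of_surjective _ _ Ideal.Quotient.mk_surjective,
    PrimeSpectrum.BasicConstructibleSetData.toSet,
    Set.sdiff_eq_compl_inter, PrimeSpectrum.basicOpen_eq_zeroLocus_compl, Ideal.mk_ker,
    PrimeSpectrum.zeroLocus_span]

/-- affine case -/
lemma affine_case (R : CommRingCat.{u}) {s : Set (PrimeSpectrum R)} (hs : IsConstructible s) :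
    ∃ (W : Scheme.{u}) (g : W ⟶ Spec R), IsAffine W ∧ LocallyOfFinitePresentation g ∧
      Set.range g.base = s := by
  obtain ⟨S, rfl⟩ := PrimeSpectrum.exists_constructibleSetData_iff.2 hs
  choose W g hW hg hrange using fun C : PrimeSpectrum.BasicConstructibleSetData R =>
    basic_piece R C
  let ι : Type u := ULift.{u} (↥S)
  have : Finite ι := inferInstance
  let W' : ι → Scheme.{u} := fun i => W i.down.1
  have hW' : ∀ i, IsAffine (W' i) := fun i => hW _
  refine ⟨∐ W', Sigma.desc (fun i => g i.down.1), inferInstance,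
    IsZariskiLocalAtSource.sigmaDesc (fun i => hg _), ?_⟩
  rw [range_sigmaDesc, PrimeSpectrum.ConstructibleSetData.toSet]
  ext x
  constructor
  · intro hx
    rw [Set.mem_iUnion] at hx
    obtain ⟨i, hi⟩ := hx
    rw [hrange] at hi
    exact Set.mem_biUnion i.down.2 hi
  · intro hx
    have hx' : (show PrimeSpectrum R from x) ∈ ⋃ C ∈ S, C.toSet := hx
    rw [Set.mem_iUnion₂] at hx'
    obtain ⟨C, hC, hx⟩ := hx'
    rw [Set.mem_iUnion]
    refine ⟨⟨⟨C, hC⟩⟩, ?_⟩
    rw [hrange]; exact hx

end Groth.Agent.H3.ConstructibleImage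

namespace Groth.Agent.H3.ConstructibleImage

theorem main (X : Scheme.{u}) [CompactSpace X] [QuasiSeparatedSpace X] (Z : Set X)
    (hZ : IsConstructible Z) :
    ∃ (X' : Scheme.{u}) (f : X' ⟶ X), IsAffine X' ∧ LocallyOfFinitePresentation f ∧ QuasiCompact f ∧
      QuasiSeparated f ∧ Set.range f.base = Z := by
  obtain ⟨𝒰, h𝒰⟩ : ∃ 𝒰 : X.OpenCover, 𝒰 = X.affineCover.finiteSubcover := ⟨_, rfl⟩
  have hfin : Finite 𝒰.I₀ := by rw [h𝒰]; infer_instance
  have haff : ∀ i, IsAffine (𝒰.X i) := fun i => by
    subst h𝒰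
    show IsAffine (X.affineCover.X _)
    infer_instance
  have key : ∀ i : 𝒰.I₀, ∃ (W : Scheme.{u}) (g : W ⟶ 𝒰.X i), IsAffine W ∧
      LocallyOfFinitePresentation g ∧ Set.range g.base = (𝒰.f i).base ⁻¹' Z := by
    intro i
    let e := (𝒰.X i).isoSpec
    have hcons : IsConstructible ((𝒰.f i).base ⁻¹' Z) :=
      hZ.preimage_of_isOpenEmbedding (𝒰.f i).isOpenEmbedding
    have hcons' : IsConstructible (e.inv.base ⁻¹' ((𝒰.f i).base ⁻¹' Z)) :=
      hcons.preimage_of_isOpenEmbedding e.inv.isOpenEmbedding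
    obtain ⟨W, g, hW, hg, hr⟩ := affine_case _ hcons'
    refine ⟨W, g ≫ e.inv, hW, inferInstance, ?_⟩
    have hsurj : Function.Surjective e.inv.base := e.inv.surjective
    have : (g ≫ e.inv).base = e.inv.base ∘ g.base := by
      ext1 x; exact Scheme.Hom.comp_apply _ _ _
    rw [this, Set.range_comp, hr, Set.image_preimage_eq _ hsurj]
  choose W g hW hg hr using key
  refine ⟨∐ W, Sigma.desc (fun i => g i ≫ 𝒰.f i), inferInstance,
    IsZariskiLocalAtSource.sigmaDesc (fun i => inferInstance), inferInstance, inferInstance, ?_⟩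
  rw [range_sigmaDesc]
  ext x
  rw [Set.mem_iUnion]
  constructor
  · rintro ⟨i, w, rfl⟩
    have h1 : (g i).base w ∈ (𝒰.f i).base ⁻¹' Z := by rw [← hr i]; exact ⟨w, rfl⟩
    rw [Scheme.Hom.comp_apply]
    exact h1
  · intro hx
    obtain ⟨i, y, rfl⟩ := 𝒰.exists_eq x
    have h1 : y ∈ Set.range (g i).base := by rw [hr i]; exact hx
    obtain ⟨w, rfl⟩ := h1
    exact ⟨i, w, Scheme.Hom.comp_apply _ _ _⟩

end Groth.Agent.H3.ConstructibleImage
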