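import Mathlib

set_option autoImplicit false
universe u

namespace Groth.Agent.H3.GeomRedProd
open AlgebraicGeometry CategoryTheory CategoryTheory.Limits TensorProduct

variable {k : Type u} [Field k]

/-- Affine pieces over a Noetherian reduced base are reduced. -/
lemma isReduced_piece {X : Scheme.{u}} (f : X ⟶ Spec (CommRingCat.of k)) [GeometricallyReduced f]
    {Y : Scheme.{u}} (g : Y ⟶ Spec (CommRingCat.of k)) [IsReduced Y] [IsLocallyNoetherian Y]
    {U : Scheme.{u}} (j : U ⟶ X) [IsOpenImmersion j] : IsReduced (pullback (j ≫ f) g) := by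
  have h1 : IsReduced (pullback f g) := inferInstance
  have e1 : (j ≫ f) ≫ 𝟙 _ = j ≫ f := Category.comp_id _
  have e2 : g ≫ 𝟙 _ = 𝟙 Y ≫ g := by rw [Category.comp_id, Category.id_comp]
  have : IsOpenImmersion (pullback.map (j ≫ f) g f g j (𝟙 Y) (𝟙 _) e1 e2) :=
    inferInstance
  exact isReduced_of_isOpenImmersion (pullback.map (j ≫ f) g f g j (𝟙 Y) (𝟙 _) e1 e2)

/-- Ring-level: `A ⊗_k B` is reduced when `Spec A` is open in a geometrically reduced `X`. -/
lemma isReduced_tensor {X : Scheme.{u}} (f : X ⟶ Spec (CommRingCat.of k)) [GeometricallyReduced f]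
    (A : Type u) [CommRing A] [Algebra k A] (j : Spec (CommRingCat.of A) ⟶ X) [IsOpenImmersion j]
    (hj : j ≫ f = Spec.map (CommRingCat.ofHom (algebraMap k A)))
    (B : Type u) [CommRing B] [Algebra k B] [_root_.IsReduced B] :
    _root_.IsReduced (A ⊗[k] B) := by
  apply IsReduced.tensorProduct_of_flat_of_forall_fg
  intro D hD
  have hft : Algebra.FiniteType k D := (Subalgebra.fg_iff_finiteType D).1 hD
  have hnoeth : IsNoetherianRing D := Algebra.FiniteType.isNoetherianRing k D
  have hred : _root_.IsReduced D := isReduced_of_injective D.val Subtype.val_injective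
  have hredS : IsReduced (Spec (CommRingCat.of D)) := (affine_isReduced_iff _).2 hred
  have h1 := isReduced_piece f (Spec.map (CommRingCat.ofHom (algebraMap k D))) j
  rw [hj] at h1
  have h2 : IsReduced (Spec (CommRingCat.of (A ⊗[k] D))) :=
    isReduced_of_isOpenImmersion (pullbackSpecIso k A D).inv
  exact (affine_isReduced_iff _).1 h2

lemma aux {X : Scheme.{u}} (f : X ⟶ Spec (CommRingCat.of k)) [GeometricallyReduced f]
    (A B : CommRingCat.{u}) (φ : CommRingCat.of k ⟶ A) (ψ : CommRingCat.of k ⟶ B)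
    (j : Spec A ⟶ X) [IsOpenImmersion j] (hj : j ≫ f = Spec.map φ) [_root_.IsReduced B] :
    IsReduced (pullback (Spec.map φ) (Spec.map ψ)) := by
  let _ : Algebra k A := φ.hom.toAlgebra
  let _ : Algebra k B := ψ.hom.toAlgebra
  have h1 : _root_.IsReduced (A ⊗[k] B) := isReduced_tensor f A j hj B
  have h2 : IsReduced (Spec (CommRingCat.of (A ⊗[k] B))) := (affine_isReduced_iff _).2 h1
  exact isReduced_of_isOpenImmersion (pullbackSpecIso k A B).hom

theorem main {X S : Scheme.{u}} (f : X ⟶ Spec (CommRingCat.of k)) (g : S ⟶ Spec (CommRingCat.of k))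
    [GeometricallyReduced f] [IsReduced S] : IsReduced (pullback f g) := by
  apply +allowSynthFailures @IsReduced.of_openCover
    (𝒰 := Scheme.Pullback.openCoverOfLeftRight X.affineOpenCover.openCover
      S.affineOpenCover.openCover f g)
  rintro ⟨i, j⟩
  change IsReduced (pullback (X.affineOpenCover.f i ≫ f) (S.affineOpenCover.f j ≫ g))
  obtain ⟨φ, hφ⟩ : ∃ φ, Spec.map φ = X.affineOpenCover.f i ≫ f :=
    ⟨Spec.preimage _, Spec.map_preimage _⟩
  obtain ⟨ψ, hψ⟩ : ∃ ψ, Spec.map ψ = S.affineOpenCover.f j ≫ g :=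
    ⟨Spec.preimage _, Spec.map_preimage _⟩
  have hB : IsReduced (Spec (S.affineOpenCover.X j)) :=
    isReduced_of_isOpenImmersion (S.affineOpenCover.f j)
  have hB' : _root_.IsReduced (S.affineOpenCover.X j) := (affine_isReduced_iff _).1 hB
  rw [← hφ, ← hψ]
  exact aux f _ _ φ ψ (X.affineOpenCover.f i) hφ.symm

end Groth.Agent.H3.GeomRedProd
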